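import Groth.Agent.Vancyc.H678.P2Quad
import Groth.Agent.Hensel.MvHensel

/-!
# (Q1) Congruent non-degenerate quadratic forms over a henselian local ring are isometric
-/

set_option autoImplicit false

universe u

namespace Groth.Agent.Vancyc.H15.QuadIso

open VanCyc Matrix IsLocalRing

section Tri

variable {R : Type*} [CommRing R] {N : ℕ}

/-- The upper triangular part of a table, as a matrix. -/
def upper (a : Fin N → Fin N → R) : Matrix (Fin N) (Fin N) R := fun i j => if i ≤ j then a i j else 0

/-- The upper triangular table of the quadratic form of a matrix. -/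
def tri (w : Matrix (Fin N) (Fin N) R) : Matrix (Fin N) (Fin N) R :=
  fun i j => if i = j then w i i else w i j + w j i

theorem sum_eq_sum_tri (w : Matrix (Fin N) (Fin N) R) (v : Fin N → R) :
    (∑ i, ∑ j, w i j * v i * v j) = ∑ i, ∑ j, if i ≤ j then tri w i j * v i * v j else 0 := by
  have h1 : ∀ i j, w i j * v i * v j = (if i ≤ j then (if i = j then w i i else w i j) * v i * v j
      else 0) + (if j ≤ i then (if i = j then 0 else w i j) * v i * v j else 0) := by
    intro i j
    rcases lt_trichotomy i j with h | h | h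
    · rw [if_pos h.le, if_neg h.ne, if_neg (not_le.2 h), add_zero]
    · subst h; simp
    · rw [if_neg (not_le.2 h), if_pos h.le, if_neg h.ne', zero_add]
  calc (∑ i, ∑ j, w i j * v i * v j) = (∑ i, ∑ j, if i ≤ j then (if i = j then w i i else w i j) *
        v i * v j else 0) + ∑ i, ∑ j, (if j ≤ i then (if i = j then 0 else w i j) * v i * v j else 0) := by
        rw [← Finset.sum_add_distrib]
        refine Finset.sum_congr rfl fun i _ => ?_
        rw [← Finset.sum_add_distrib]
        exact Finset.sum_congr rfl fun j _ => h1 i j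
    _ = _ := by
        rw [Finset.sum_comm (f := fun i j => if j ≤ i then (if i = j then 0 else w i j) * v i * v j
          else 0), ← Finset.sum_add_distrib]
        refine Finset.sum_congr rfl fun i _ => ?_
        rw [← Finset.sum_add_distrib]
        refine Finset.sum_congr rfl fun j _ => ?_
        by_cases h : i ≤ j
        · rw [if_pos h, if_pos h, if_pos h]
          by_cases h' : i = j
          · subst h'; simp [tri]
          · rw [tri, if_neg h', if_neg h', if_neg (Ne.symm h')]; ring
        · rw [if_neg h, if_neg h, if_neg h, add_zero]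

theorem quadEval_eq_upper (a : Fin N → Fin N → R) (v : Fin N → R) :
    quadEval a v = v ⬝ᵥ (upper a).mulVec v := by
  simp only [quadEval, dotProduct, mulVec, Finset.mul_sum, upper]
  refine Finset.sum_congr rfl fun i _ => Finset.sum_congr rfl fun j _ => ?_
  split_ifs
  · ring
  · ring

theorem quadEval_tri (w : Matrix (Fin N) (Fin N) R) (v : Fin N → R) :
    quadEval (tri w) v = v ⬝ᵥ w.mulVec v := by
  rw [quadEval, ← sum_eq_sum_tri]
  simp only [dotProduct, mulVec, Finset.mul_sum]
  exact Finset.sum_congr rfl fun i _ => Finset.sum_congr rfl fun j _ => by ring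

/-- Substitution of a linear map into a quadratic form. -/
theorem quadEval_mulVec (a : Fin N → Fin N → R) (S : Matrix (Fin N) (Fin N) R) (v : Fin N → R) :
    quadEval a (S.mulVec v) = quadEval (tri (Sᵀ * upper a * S)) v := by
  rw [quadEval_tri, quadEval_eq_upper, ← mulVec_mulVec, ← mulVec_mulVec, dotProduct_mulVec v,
    vecMul_transpose]

theorem quadEval_add_table (a b : Fin N → Fin N → R) (v : Fin N → R) :
    quadEval (fun i j => a i j + b i j) v = quadEval a v + quadEval b v := by
  simp only [quadEval, ← Finset.sum_add_distrib]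
  refine Finset.sum_congr rfl fun i _ => Finset.sum_congr rfl fun j _ => ?_
  split_ifs
  · ring
  · ring

theorem quadEval_congr_table {a b : Fin N → Fin N → R} (h : ∀ i j, i ≤ j → a i j = b i j)
    (v : Fin N → R) : quadEval a v = quadEval b v := by
  simp only [quadEval]
  refine Finset.sum_congr rfl fun i _ => Finset.sum_congr rfl fun j _ => ?_
  split_ifs with hij
  · rw [h i j hij]
  · rfl

/-- `Q(x + S x) = Q(x) + ⟨B S x, x⟩ + Q(S x)`. -/
theorem quadEval_one_add (a : Fin N → Fin N → R) (S : Matrix (Fin N) (Fin N) R) (v : Fin N → R) :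
    quadEval a ((1 + S).mulVec v) =
      quadEval a v + ((polarMatrix a * S).mulVec v) ⬝ᵥ v + quadEval a (S.mulVec v) := by
  have h := Groth.Agent.Vancyc.H678.P2Quad.polar_dotProduct a (S.mulVec v) v
  rw [mulVec_mulVec] at h
  rw [h, add_mulVec, one_mulVec, add_comm v]
  ring

end Tri

section Van

open MvPolynomial

variable {R : Type u} [CommRing R] {ι : Type}

/-- Polynomials vanishing to order two at the origin. -/
def ZZ (p : MvPolynomial ι R) : Prop :=
  eval (fun _ => (0 : R)) p = 0 ∧ ∀ q, eval (fun _ => (0 : R)) (pderiv q p) = 0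

theorem ZZ.add {p q : MvPolynomial ι R} (hp : ZZ p) (hq : ZZ q) : ZZ (p + q) :=
  ⟨by rw [map_add, hp.1, hq.1, add_zero], fun i => by rw [map_add, map_add, hp.2, hq.2, add_zero]⟩

theorem ZZ.sum {κ : Type*} (s : Finset κ) {f : κ → MvPolynomial ι R} (h : ∀ i ∈ s, ZZ (f i)) :
    ZZ (∑ i ∈ s, f i) := by
  classical
  induction s using Finset.induction_on with
  | empty => exact ⟨by simp, fun i => by simp⟩
  | insert a s ha ih =>
    rw [Finset.sum_insert ha]
    exact (h a (Finset.mem_insert_self _ _)).add (ih fun i hi => h i (Finset.mem_insert_of_mem hi))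

theorem zz_mul {p q : MvPolynomial ι R} (hp : eval (fun _ => (0 : R)) p = 0)
    (hq : eval (fun _ => (0 : R)) q = 0) : ZZ (p * q) :=
  ⟨by rw [map_mul, hp, zero_mul], fun i => by
    rw [Derivation.leibniz, map_add, smul_eq_mul, smul_eq_mul, map_mul, map_mul, hp, hq]; ring⟩

end Van

section Main

open MvPolynomial

variable {R : Type u} [CommRing R] {N : ℕ}

/-- The index set of the unknown upper triangular matrix. -/
abbrev Idx (N : ℕ) : Type := {p : Fin N × Fin N // p.1 ≤ p.2}

/-- The upper triangular matrix of a family. -/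
def umat {S : Type*} [Zero S] (y : Idx N → S) : Matrix (Fin N) (Fin N) S :=
  fun i j => if h : i ≤ j then y ⟨(i, j), h⟩ else 0

theorem map_umat {S T : Type*} [CommRing S] [CommRing T] (φ : S →+* T) (y : Idx N → S) :
    (umat y).map φ = umat fun p => φ (y p) := by
  ext i j
  simp only [map_apply, umat]
  split_ifs
  · rfl
  · exact map_zero φ

theorem map_tri {S T : Type*} [CommRing S] [CommRing T] (φ : S →+* T)
    (w : Matrix (Fin N) (Fin N) S) (i j : Fin N) : φ (tri w i j) = tri (w.map φ) i j := by
  simp only [tri, map_apply]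
  split_ifs
  · rfl
  · exact map_add φ _ _

/-- (Q1) Two congruent quadratic forms over a henselian local ring, one of them non-degenerate,
are isometric by a matrix congruent to the identity. -/
theorem exists_isometry [HenselianLocalRing R] (a a' : Fin N → Fin N → R) (ha : QuadNondeg a)
    (h : ∀ i j, i ≤ j → a' i j - a i j ∈ maximalIdeal R) :
    ∃ T : Matrix (Fin N) (Fin N) R, (∀ i j, T i j - (1 : Matrix (Fin N) (Fin N) R) i j ∈
      maximalIdeal R) ∧ ∀ v : Fin N → R, quadEval a (T.mulVec v) = quadEval a' v := by
  classical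
  set B := polarMatrix a with hB
  have hBB : B * B⁻¹ = 1 := Matrix.mul_nonsing_inv B ha
  let U : Matrix (Fin N) (Fin N) (MvPolynomial (Idx N) R) := umat fun p => X p
  let S : Matrix (Fin N) (Fin N) (MvPolynomial (Idx N) R) := (B⁻¹).map C * U
  let A : Matrix (Fin N) (Fin N) (MvPolynomial (Idx N) R) := (upper a).map C
  have hSdef : ∀ i j, S i j = ∑ l, (B⁻¹).map C i l * U l j := fun i j => Matrix.mul_apply
  let G : Idx N → MvPolynomial (Idx N) R := fun p =>
    X p + tri (Sᵀ * A * S) p.1.1 p.1.2 - C (a' p.1.1 p.1.2 - a p.1.1 p.1.2)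
  have hU0 : ∀ i j, eval (fun _ => (0 : R)) (U i j) = 0 := by
    intro i j
    have h1 := congrFun (congrFun (map_umat (eval (fun _ => (0 : R))) (fun p : Idx N => X p)) i) j
    rw [map_apply] at h1
    rw [h1, umat]
    split_ifs <;> simp
  have hS0 : ∀ i j, eval (fun _ => (0 : R)) (S i j) = 0 := by
    intro i j
    rw [hSdef, map_sum]
    refine Finset.sum_eq_zero fun l _ => ?_
    rw [map_mul, hU0, mul_zero]
  have hZ : ∀ i j, ZZ ((Sᵀ * A * S) i j) := by
    intro i j
    rw [Matrix.mul_apply]
    refine ZZ.sum _ fun l _ => ?_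
    refine zz_mul ?_ (hS0 l j)
    rw [Matrix.mul_apply, map_sum]
    refine Finset.sum_eq_zero fun m _ => ?_
    rw [map_mul, transpose_apply, hS0, zero_mul]
  have hZt : ∀ i j, ZZ (tri (Sᵀ * A * S) i j) := by
    intro i j
    rw [tri]
    split_ifs
    · exact hZ i i
    · exact (hZ i j).add (hZ j i)
  obtain ⟨y, hy0, hy1⟩ := Groth.Agent.Hensel.MvHensel.exists_root (I := maximalIdeal R) G
    (fun _ => 0) (fun p => by
      simp only [G]
      rw [map_sub, map_add, eval_X, eval_C, (hZt _ _).1, zero_add, zero_sub]
      exact (maximalIdeal R).neg_mem (h _ _ p.2)) (by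
      have h1 : ∀ p q : Idx N, eval (fun _ => (0 : R)) (pderiv p (G q)) =
          (1 : Matrix (Idx N) (Idx N) R) p q := by
        intro p q
        simp only [G]
        rw [map_sub, map_add, map_sub, map_add, (hZt _ _).2, pderiv_C, map_zero, sub_zero, add_zero,
          pderiv_X, Matrix.one_apply]
        by_cases hpq : p = q
        · subst hpq; simp
        · rw [if_neg hpq, Pi.single_eq_of_ne (Ne.symm hpq), map_zero]
      have h2 : eval (fun _ => (0 : R)) (Groth.Agent.Hensel.MvHensel.jac G).det = 1 := by
        rw [RingHom.map_det]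
        have h3 : (eval (fun _ => (0 : R))).mapMatrix (Groth.Agent.Hensel.MvHensel.jac G) = 1 := by
          ext p q
          rw [RingHom.mapMatrix_apply, map_apply]
          exact h1 p q
        rw [h3, Matrix.det_one]
      rw [h2, map_one]
      exact isUnit_one)
  have hy1' : ∀ p, y p ∈ maximalIdeal R := fun p => by simpa using hy1 p
  let V : Matrix (Fin N) (Fin N) R := umat y
  let W : Matrix (Fin N) (Fin N) R := B⁻¹ * V
  have hVm : ∀ i j, V i j ∈ maximalIdeal R := by
    intro i j
    simp only [V, umat]
    split_ifs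
    · exact hy1' _
    · exact Ideal.zero_mem _
  have hSW : S.map (eval y) = W := by
    rw [Matrix.map_mul]
    congr 1
    · ext i j
      simp
    · rw [map_umat]
      simp [V]
  have hAW : A.map (eval y) = upper a := by
    ext i j
    simp [A]
  have heq : ∀ i j, i ≤ j → V i j + tri (Wᵀ * upper a * W) i j = a' i j - a i j := by
    intro i j hij
    have h1 := hy0 ⟨(i, j), hij⟩
    simp only [G] at h1
    rw [map_sub, map_add, eval_X, eval_C, map_tri, Matrix.map_mul, Matrix.map_mul, transpose_map,
      hSW, hAW, sub_eq_zero] at h1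
    rw [← h1]
    congr 1
    simp [V, umat, hij]
  refine ⟨1 + W, fun i j => ?_, fun v => ?_⟩
  · have hWdef : W i j = ∑ l, B⁻¹ i l * V l j := Matrix.mul_apply
    rw [Matrix.add_apply, add_sub_cancel_left, hWdef]
    exact sum_mem fun l _ => Ideal.mul_mem_left _ _ (hVm l j)
  · rw [quadEval_one_add, quadEval_mulVec, ← hB, ← Matrix.mul_assoc, hBB, Matrix.one_mul,
      dotProduct_comm]
    have h1 : v ⬝ᵥ V.mulVec v = quadEval V v := by
      rw [← quadEval_tri]
      refine quadEval_congr_table (fun i j hij => ?_) v
      rw [tri]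
      by_cases hij' : i = j
      · subst hij'; rw [if_pos rfl]
      · rw [if_neg hij']
        have : V j i = 0 := by
          simp only [V, umat]
          rw [dif_neg (not_le.2 (lt_of_le_of_ne hij hij'))]
        rw [this, add_zero]
    rw [h1, ← quadEval_add_table, ← quadEval_add_table]
    refine quadEval_congr_table (fun i j hij => ?_) v
    rw [add_assoc, heq i j hij]
    ring

end Main

end Groth.Agent.Vancyc.H15.QuadIso
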