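import Groth.Agent.Vancyc.H678.P2Quad
import Mathlib.Algebra.DualNumber

/-!
# The ring `K[s,t]/(s²,t²)` and quadratic forms
-/

set_option autoImplicit false

universe u

namespace Groth.Agent.Vancyc.H15.ResCoef

open VanCyc Matrix

variable {K : Type u} [Field K] {N : ℕ}

/-- `K[t][s]` with `t² = 0 = s²` (the inner variable is `t`). -/
abbrev T (K : Type u) [Field K] : Type u := DualNumber (DualNumber K)

theorem snd_snd_sum {ι : Type*} (s : Finset ι) (f : ι → T K) :
    (∑ i ∈ s, f i).snd.snd = ∑ i ∈ s, (f i).snd.snd := by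
  classical
  induction s using Finset.induction_on with
  | empty => simp
  | insert a s ha ih => rw [Finset.sum_insert ha, Finset.sum_insert ha, TrivSqZeroExt.snd_add,
      TrivSqZeroExt.snd_add, ih]

theorem snd_snd_mul (c : K) (x y : T K) (hx : x.fst.fst = 0) (hy : y.fst.fst = 0) :
    (algebraMap K (T K) c * x * y).snd.snd = c * (x.fst.snd * y.snd.fst + y.fst.snd * x.snd.fst) := by
  rw [IsScalarTower.algebraMap_apply K (DualNumber K) (T K)]
  simp [TrivSqZeroExt.algebraMap_eq_inl, hx, hy]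
  ring

/-- The coefficient of `st` in `Q(y)`, for `y = v s + w t + u st`, is the polar form of `v, w`. -/
theorem snd_snd_quadEval (a : Fin N → Fin N → K) (y : Fin N → T K) (hy : ∀ i, (y i).fst.fst = 0) :
    (quadEval (fun i j => algebraMap K (T K) (a i j)) y).snd.snd =
      (polarMatrix a).mulVec (fun i => (y i).fst.snd) ⬝ᵥ fun i => (y i).snd.fst := by
  rw [Groth.Agent.Vancyc.H678.P2Quad.polar_dotProduct]
  simp only [quadEval, snd_snd_sum, ← Finset.sum_sub_distrib]
  refine Finset.sum_congr rfl fun i _ => Finset.sum_congr rfl fun j _ => ?_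
  split_ifs
  · rw [snd_snd_mul _ _ _ (hy i) (hy j)]
    simp only [Pi.add_apply]
    ring
  · simp

theorem isUnit_iff (x : T K) : IsUnit x ↔ x.fst.fst ≠ 0 := by
  rw [TrivSqZeroExt.isUnit_iff_isUnit_fst, TrivSqZeroExt.isUnit_iff_isUnit_fst, isUnit_iff_ne_zero]

theorem mul_mul_eq_zero (x y z : T K) (hx : x.fst.fst = 0) (hy : y.fst.fst = 0) (hz : z.fst.fst = 0) :
    x * y * z = 0 := by
  apply TrivSqZeroExt.ext
  · apply TrivSqZeroExt.ext <;> simp [hx, hy, hz]
  · apply TrivSqZeroExt.ext <;> simp [hx, hy, hz]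

end Groth.Agent.Vancyc.H15.ResCoef
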