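import Mathlib.Algebra.DualNumber
import Mathlib.RingTheory.Derivation.Basic
import Mathlib.RingTheory.Localization.AtPrime.Basic
import Mathlib.RingTheory.LocalRing.MaximalIdeal.Basic
import Mathlib.RingTheory.TensorProduct.Basic
import Mathlib.RingTheory.TensorProduct.Free
import Mathlib.LinearAlgebra.Dual.Lemmas
import Mathlib.LinearAlgebra.Basis.VectorSpace

/-!
# Tangent vectors of `K ⊗ O` at a point with residue field `κ ⊆ K`

`O → κ → K`; `L` the local ring of `K ⊗_k O` at the corresponding `K`-point.  Tangent vectors of `L`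
coming from `k`-derivations `O → κ` separate the cotangent space of `L`.
-/

set_option autoImplicit false

universe u

open scoped TensorProduct

namespace Groth.Agent.Vancyc.H15.ResExt

section Ext

variable {k K O : Type u} [Field k] [Field K] [CommRing O] [Algebra k K] [Algebra k O]

/-- The `K`-point of `K ⊗ O`. -/
noncomputable def ev (ε : O →ₐ[k] K) : K ⊗[k] O →ₐ[K] K :=
  Algebra.TensorProduct.lift (AlgHom.id K K) ε (fun _ _ => Commute.all _ _)

@[simp]
theorem ev_tmul (ε : O →ₐ[k] K) (c : K) (a : O) : ev ε (c ⊗ₜ a) = c * ε a := by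
  simp [ev]

instance (ε : O →ₐ[k] K) : (RingHom.ker (ev ε)).IsMaximal :=
  RingHom.ker_isMaximal_of_surjective (ev ε) fun c => ⟨c ⊗ₜ 1, by simp⟩

variable (k K) in
/-- The image of `1 ⊗ a`. -/
noncomputable def inc (L : Type u) [CommRing L] [Algebra (K ⊗[k] O) L] (a : O) : L :=
  algebraMap (K ⊗[k] O) L (1 ⊗ₜ a)

variable (ε : O →ₐ[k] K)
variable {L : Type u} [CommRing L] [Algebra K L] [Algebra (K ⊗[k] O) L]
  [IsScalarTower K (K ⊗[k] O) L]

theorem algebraMap_tmul (c : K) (a : O) :
    algebraMap (K ⊗[k] O) L (c ⊗ₜ a) = c • inc k K L a := by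
  have h : (c ⊗ₜ[k] a : K ⊗[k] O) = c • (1 ⊗ₜ[k] a) := by
    rw [TensorProduct.smul_tmul', smul_eq_mul, mul_one]
  rw [h]
  exact map_smul (IsScalarTower.toAlgHom K (K ⊗[k] O) L) c _

variable [IsLocalization.AtPrime L (RingHom.ker (ev ε))]

include ε in
theorem hom_ext {S : Type u} [CommRing S] [Algebra K S] (H H' : L →ₐ[K] S)
    (h : ∀ a : O, H (inc k K L a) = H' (inc k K L a)) : H = H' := by
  have h1 : H.toRingHom = H'.toRingHom := by
    refine IsLocalization.ringHom_ext (RingHom.ker (ev ε)).primeCompl ?_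
    refine RingHom.ext fun z => ?_
    induction z using TensorProduct.induction_on with
    | zero => simp
    | tmul c a =>
      change H (algebraMap _ L (c ⊗ₜ a)) = H' (algebraMap _ L (c ⊗ₜ a))
      rw [algebraMap_tmul, map_smul, map_smul, h]
    | add x y hx hy => rw [map_add, map_add, hx, hy]
  ext z
  exact congrArg (fun f => f z) h1

variable (L) in
/-- Homomorphisms `O → S` over the `K`-point extend to `L`. -/
theorem exists_ext {S : Type u} [CommRing S] [Algebra K S] [Algebra k S] [IsScalarTower k K S]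
    (p : S →ₐ[K] K) (hp : ∀ x, p x ≠ 0 → IsUnit x) (h : O →ₐ[k] S) (hh : ∀ a, p (h a) = ε a) :
    ∃ H : L →ₐ[K] S, ∀ a : O, H (inc k K L a) = h a := by
  let H₀ : K ⊗[k] O →ₐ[K] S :=
    Algebra.TensorProduct.lift (Algebra.ofId K S) h (fun _ _ => Commute.all _ _)
  have e : p.comp H₀ = ev ε := by
    apply Algebra.TensorProduct.ext
    · ext
    · ext a
      simp [H₀, hh]
  have hu : ∀ y : (RingHom.ker (ev ε)).primeCompl, IsUnit (H₀ y) := fun y => by
    apply hp
    intro h0
    refine y.2 ?_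
    change ev ε y = 0
    rw [← DFunLike.congr_fun e (y : K ⊗[k] O)]
    exact h0
  refine ⟨IsLocalization.liftAlgHom (M := (RingHom.ker (ev ε)).primeCompl) (f := H₀) hu, fun a => ?_⟩
  rw [IsLocalization.liftAlgHom_apply, inc, IsLocalization.lift_eq]
  change H₀ _ = _
  simp [H₀]

variable (L) in
/-- The `K`-point of `L`. -/
theorem exists_evL : ∃ e : L →ₐ[K] K, ∀ a : O, e (inc k K L a) = ε a :=
  exists_ext ε L (AlgHom.id K K) (fun _ hx => isUnit_iff_ne_zero.2 hx) ε fun _ => rfl

theorem ker_evL [IsLocalRing L] (e : L →ₐ[K] K) : RingHom.ker e = IsLocalRing.maximalIdeal L :=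
  IsLocalRing.eq_maximalIdeal
    (RingHom.ker_isMaximal_of_surjective e fun c => ⟨algebraMap K L c, by simp⟩)

end Ext

end Groth.Agent.Vancyc.H15.ResExt
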