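import Groth.Agent.Vancyc.H15.ResExt
import Mathlib.Tactic.LinearCombination

/-!
# Tangent vectors coming from `k`-derivations `O → κ` separate the cotangent space
-/

set_option autoImplicit false

universe u

open scoped TensorProduct

namespace Groth.Agent.Vancyc.H15.ResTan

open ResExt IsLocalRing

section Def

variable (k κ K O : Type u) [Field k] [Field κ] [Field K] [CommRing O] [Algebra k κ] [Algebra κ K]
  [Algebra k K] [IsScalarTower k κ K] [Algebra k O] [Algebra O κ] [IsScalarTower k O κ]

/-- The `K`-point of `O`. -/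
noncomputable def eps : O →ₐ[k] K :=
  (IsScalarTower.toAlgHom k κ K).comp (IsScalarTower.toAlgHom k O κ)

theorem eps_apply (a : O) : eps k κ K O a = algebraMap κ K (algebraMap O κ a) := rfl

end Def

variable {k κ K O : Type u} [Field k] [Field κ] [Field K] [CommRing O] [Algebra k κ] [Algebra κ K]
  [Algebra k K] [IsScalarTower k κ K] [Algebra k O] [Algebra O κ] [IsScalarTower k O κ]

variable (K) in
/-- The `k`-homomorphism `O → K[ε]` of a derivation `O → κ`. -/
noncomputable def dhom (v : Derivation k O κ) : O →ₐ[k] DualNumber K where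
  toFun a := TrivSqZeroExt.inl (algebraMap κ K (algebraMap O κ a)) +
    TrivSqZeroExt.inr (algebraMap κ K (v a))
  map_one' := by simp
  map_zero' := by simp
  map_add' a b := by
    apply TrivSqZeroExt.ext <;>
      simp only [map_add, TrivSqZeroExt.fst_add, TrivSqZeroExt.snd_add, TrivSqZeroExt.fst_inl,
        TrivSqZeroExt.fst_inr, TrivSqZeroExt.snd_inl, TrivSqZeroExt.snd_inr, zero_add, add_zero]
  map_mul' a b := by
    apply TrivSqZeroExt.ext
    · simp
    · simp only [Derivation.leibniz, Algebra.smul_def, map_add, map_mul, TrivSqZeroExt.snd_add,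
        TrivSqZeroExt.snd_inl, TrivSqZeroExt.snd_inr, TrivSqZeroExt.snd_mul, TrivSqZeroExt.fst_add,
        TrivSqZeroExt.fst_inl, TrivSqZeroExt.fst_inr, zero_add, add_zero,
        MulOpposite.smul_eq_mul_unop, MulOpposite.unop_op, Algebra.algebraMap_self_apply]
      ring
  commutes' c := by
    apply TrivSqZeroExt.ext
    · simp [TrivSqZeroExt.algebraMap_eq_inl', ← IsScalarTower.algebraMap_apply]
    · simp [TrivSqZeroExt.algebraMap_eq_inl']

theorem dhom_apply (v : Derivation k O κ) (a : O) : dhom K v a =
    TrivSqZeroExt.inl (algebraMap κ K (algebraMap O κ a)) +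
      TrivSqZeroExt.inr (algebraMap κ K (v a)) := rfl

theorem fst_dhom (v : Derivation k O κ) (a : O) : (dhom K v a).fst = eps k κ K O a := by
  rw [dhom_apply, TrivSqZeroExt.fst_add, TrivSqZeroExt.fst_inl, TrivSqZeroExt.fst_inr, add_zero]
  rfl

theorem snd_dhom (v : Derivation k O κ) (a : O) :
    (dhom K v a).snd = algebraMap κ K (v a) := by
  rw [dhom_apply, TrivSqZeroExt.snd_add, TrivSqZeroExt.snd_inl, TrivSqZeroExt.snd_inr, zero_add]

section Sep

variable {L : Type u} [CommRing L] [Algebra K L] [Algebra (K ⊗[k] O) L]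
  [IsScalarTower K (K ⊗[k] O) L] [IsLocalization.AtPrime L (RingHom.ker (ev (eps k κ K O)))]
  [IsLocalRing L]

/-- Tangent vectors from `k`-derivations `O → κ` separate `𝔪_L / 𝔪_L²`. -/
theorem mem_sq_of_forall (z : L) (hz : z ∈ maximalIdeal L)
    (h : ∀ (v : Derivation k O κ) (H : L →ₐ[K] DualNumber K), (∀ a, H (inc k K L a) = dhom K v a) →
      (H z).snd = 0) : z ∈ maximalIdeal L ^ 2 := by
  by_contra hz2
  obtain ⟨e, he⟩ := exists_evL (eps k κ K O) L
  have hker := ker_evL e
  have hmem : ∀ y : L, y ∈ maximalIdeal L ↔ e y = 0 := fun y => by rw [← hker, RingHom.mem_ker]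
  -- a functional vanishing on `K + m²`
  let P : Submodule K L := Submodule.span K {(1 : L)} ⊔ (maximalIdeal L ^ 2).restrictScalars K
  have hzP : z ∉ P := by
    intro hzP
    obtain ⟨c, hc, y, hy, hcy⟩ := Submodule.mem_sup.1 hzP
    obtain ⟨c, rfl⟩ := Submodule.mem_span_singleton.1 hc
    have hy' : y ∈ maximalIdeal L ^ 2 := hy
    have hy1 : e y = 0 := (hmem y).1 (Ideal.pow_le_self two_ne_zero hy')
    have hc0 : c = 0 := by
      have := (hmem z).1 hz
      rw [← hcy, map_add, hy1, add_zero, map_smul, map_one, smul_eq_mul, mul_one] at this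
      exact this
    rw [hc0, zero_smul, zero_add] at hcy
    exact hz2 (hcy ▸ hy')
  obtain ⟨l, hlz, hlP⟩ := Submodule.exists_dual_map_eq_bot_of_notMem hzP inferInstance
  have hl : ∀ y ∈ P, l y = 0 := fun y hy => by
    have : l y ∈ P.map l := ⟨y, hy, rfl⟩
    rw [hlP] at this
    exact (Submodule.mem_bot _).1 this
  have hl1 : l 1 = 0 := hl _ (Submodule.mem_sup_left (Submodule.mem_span_singleton_self _))
  have hl2 : ∀ y ∈ maximalIdeal L ^ 2, l y = 0 := fun y hy => hl _ (Submodule.mem_sup_right hy)
  have hlc : ∀ c : K, l (algebraMap K L c) = 0 := fun c => by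
    rw [Algebra.algebraMap_eq_smul_one, map_smul, hl1, smul_zero]
  -- `l` is a derivation
  have hder : ∀ a b : L, l (a * b) = e a * l b + e b * l a := by
    intro a b
    have h1 : (a - algebraMap K L (e a)) * (b - algebraMap K L (e b)) ∈ maximalIdeal L ^ 2 := by
      rw [pow_two]
      refine Ideal.mul_mem_mul ?_ ?_ <;> rw [hmem] <;> simp
    have h2 := hl2 _ h1
    have h3 : (a - algebraMap K L (e a)) * (b - algebraMap K L (e b)) =
        a * b - e a • b - e b • a + algebraMap K L (e a * e b) := by
      rw [Algebra.smul_def, Algebra.smul_def, map_mul]; ring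
    rw [h3, map_add, map_sub, map_sub, map_smul, map_smul, hlc, add_zero, smul_eq_mul,
      smul_eq_mul] at h2
    linear_combination h2
  -- the derivations `O → κ`
  let B := Module.Basis.ofVectorSpace κ K
  have hlO : ∀ a b : O, l (inc k K L (a * b)) = eps k κ K O a * l (inc k K L b) +
      eps k κ K O b * l (inc k K L a) := by
    intro a b
    have h1 : inc k K L (a * b) = inc k K L a * inc k K L b := by
      rw [inc, inc, inc, ← map_mul, Algebra.TensorProduct.tmul_mul_tmul, one_mul]
    rw [h1, hder, he, he]
  have hladd : ∀ a b : O, inc k K L (a + b) = inc k K L a + inc k K L b := by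
    intro a b
    rw [inc, inc, inc, ← map_add, TensorProduct.tmul_add]
  have hlsmul : ∀ (c : k) (a : O), l (inc k K L (c • a)) = algebraMap k K c * l (inc k K L a) := by
    intro c a
    have h1 : inc k K L (c • a) = algebraMap k K c • inc k K L a := by
      rw [← algebraMap_tmul, inc]
      congr 1
      rw [TensorProduct.tmul_smul, TensorProduct.smul_tmul', Algebra.smul_def, mul_one]
    rw [h1, map_smul, smul_eq_mul]
  let v : ∀ b, Derivation k O κ := fun b =>
    { toLinearMap :=
        { toFun := fun a => B.repr (l (inc k K L a)) b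
          map_add' := fun a a' => by rw [hladd, map_add, map_add]; rfl
          map_smul' := fun c a => by
            rw [hlsmul, IsScalarTower.algebraMap_apply k κ K, ← Algebra.smul_def, map_smul,
              Finsupp.smul_apply, algebraMap_smul]
            rfl }
      map_one_eq_zero' := by
        change B.repr (l (inc k K L 1)) b = 0
        have h1 : inc k K L (1 : O) = 1 := by rw [inc, ← Algebra.TensorProduct.one_def, map_one]
        rw [h1, hl1, map_zero]; rfl
      leibniz' := fun a a' => by
        change B.repr (l (inc k K L (a * a'))) b = a • (B.repr (l (inc k K L a')) b) +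
          a' • (B.repr (l (inc k K L a)) b)
        rw [hlO, eps_apply, eps_apply, ← Algebra.smul_def, ← Algebra.smul_def, map_add, map_smul,
          map_smul, Finsupp.add_apply, Finsupp.smul_apply, Finsupp.smul_apply, algebraMap_smul,
          algebraMap_smul] }
  have hv : ∀ b a, v b a = B.repr (l (inc k K L a)) b := fun b a => rfl
  -- the extensions
  have hH : ∀ b, ∃ H : L →ₐ[K] DualNumber K, ∀ a : O, H (inc k K L a) = dhom K (v b) a := fun b =>
    exists_ext (eps k κ K O) L (TrivSqZeroExt.fstHom K K K)
      (fun x hx => TrivSqZeroExt.isUnit_iff_isUnit_fst.2 (isUnit_iff_ne_zero.2 hx)) _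
      (fun a => fst_dhom _ a)
  choose H hH using hH
  have hHfst : ∀ b y, (H b y).fst = e y := by
    intro b y
    have h1 : (TrivSqZeroExt.fstHom K K K).comp (H b) = e :=
      hom_ext (eps k κ K O) _ _ fun a => by
        rw [he, AlgHom.comp_apply, hH]
        exact fst_dhom _ a
    exact DFunLike.congr_fun h1 y
  -- a denominator
  obtain ⟨⟨z₀, s⟩, hzs⟩ := IsLocalization.surj (RingHom.ker (ev (eps k κ K O))).primeCompl z
  have hs : e (algebraMap (K ⊗[k] O) L s) ≠ 0 := by
    have h1 : IsUnit (algebraMap (K ⊗[k] O) L s) := IsLocalization.map_units L s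
    intro h2
    exact (h1.map e).ne_zero h2
  replace hzs : z * algebraMap (K ⊗[k] O) L s = algebraMap (K ⊗[k] O) L z₀ := hzs
  have hz0 : ∀ b, (H b (algebraMap (K ⊗[k] O) L z₀)).snd = 0 := by
    intro b
    rw [← hzs, map_mul, TrivSqZeroExt.snd_mul, h (v b) (H b) (hH b), hHfst b z, (hmem z).1 hz]
    simp
  -- coordinates
  let Φ : K ⊗[k] O →+ K ⊗[κ] K :=
    TensorProduct.liftAddHom
      { toFun := fun c =>
          { toFun := fun a => c ⊗ₜ[κ] (l (inc k K L a))
            map_zero' := by
              have h1 : inc k K L (0 : O) = 0 := by rw [inc, TensorProduct.tmul_zero, map_zero]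
              rw [h1, map_zero, TensorProduct.tmul_zero]
            map_add' := fun a a' => by rw [hladd, map_add, TensorProduct.tmul_add] }
        map_zero' := by ext a; exact TensorProduct.zero_tmul _ _
        map_add' := fun c c' => by ext a; exact TensorProduct.add_tmul _ _ _ }
      (fun r c a => by
        change (r • c) ⊗ₜ[κ] (l (inc k K L a)) = c ⊗ₜ[κ] (l (inc k K L (r • a)))
        rw [hlsmul, IsScalarTower.algebraMap_apply k κ K, ← Algebra.smul_def,
          TensorProduct.tmul_smul, TensorProduct.smul_tmul', algebraMap_smul])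
  have hΦ : ∀ (c : K) (a : O), Φ (c ⊗ₜ a) = c ⊗ₜ[κ] (l (inc k K L a)) := fun c a => rfl
  have hcoord : ∀ b (y : K ⊗[k] O), (Algebra.TensorProduct.basis K B).repr (Φ y) b =
      (H b (algebraMap (K ⊗[k] O) L y)).snd := by
    intro b y
    induction y using TensorProduct.induction_on with
    | zero => simp
    | tmul c a =>
      rw [hΦ, Algebra.TensorProduct.basis_repr_tmul, algebraMap_tmul, map_smul, hH,
        TrivSqZeroExt.snd_smul, snd_dhom, hv]
      rfl
    | add y y' hy hy' =>
      rw [map_add, map_add, Finsupp.add_apply, hy, hy', map_add, map_add, TrivSqZeroExt.snd_add]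
  have hΦ0 : Φ z₀ = 0 := by
    apply (Algebra.TensorProduct.basis K B).repr.injective
    ext b
    rw [hcoord, hz0, map_zero]; rfl
  have hmul : ∀ y : K ⊗[k] O, Algebra.TensorProduct.lmul' κ (S := K) (Φ y) =
      l (algebraMap (K ⊗[k] O) L y) := by
    intro y
    induction y using TensorProduct.induction_on with
    | zero => simp
    | tmul c a =>
      rw [hΦ, Algebra.TensorProduct.lmul'_apply_tmul, algebraMap_tmul, map_smul, smul_eq_mul]
    | add y y' hy hy' => rw [map_add, map_add, hy, hy', map_add, map_add]
  have h1 := hmul z₀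
  rw [hΦ0, map_zero, ← hzs, hder, (hmem z).1 hz, zero_mul, zero_add] at h1
  rcases mul_eq_zero.1 h1.symm with h2 | h2
  · exact hs h2
  · exact hlz h2

end Sep

end Groth.Agent.Vancyc.H15.ResTan
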